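import Groth.Agent.TsenLib.Basic
import Mathlib.FieldTheory.Galois.Basic
import Mathlib.GroupTheory.Sylow
import Mathlib.GroupTheory.IndexNormal
import Mathlib.RingTheory.Norm.Transitivity
import Mathlib.LinearAlgebra.LinearIndependent.Lemmas

/-!
# Norms in finite Galois extensions of a `C₁` field

The norm is surjective, and an element of norm one is a product of elements `w / g w`.
-/

set_option autoImplicit false

universe u

open MvPolynomial Finset

namespace NormC1Lib

theorem norm_surjective {K L : Type u} [Field K] [Field L] [Algebra K L] [FiniteDimensional K L]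
    (hK : Curves.IsCi K 1) (c : K) : ∃ z : L, Algebra.norm K z = c := by
  classical
  let b := Module.finBasis K L
  set d := Module.finrank K L
  have hd : 0 < d := Module.finrank_pos
  let M : Matrix (Fin d) (Fin d) (MvPolynomial (Option (Fin d)) K) := fun i j =>
    ∑ l : Fin d, C (Algebra.leftMulMatrix b (b l) i j) * X (some l)
  let f : MvPolynomial (Option (Fin d)) K := M.det - C c * X none ^ d
  have hM : ∀ i j, (M i j).IsHomogeneous 1 := fun i j =>
    IsHomogeneous.sum _ _ _ fun l _ => (isHomogeneous_X K _).C_mul _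
  have hdet : M.det.IsHomogeneous d := by
    rw [Matrix.det_apply]
    refine IsHomogeneous.sum _ _ _ fun σ _ => ?_
    have h1 : (∏ i, M (σ i) i).IsHomogeneous d := by
      have h2 := IsHomogeneous.prod (univ : Finset (Fin d)) (fun i => M (σ i) i) (fun _ => 1) fun i _ => hM _ _
      simpa using h2
    rcases Int.units_eq_one_or (Equiv.Perm.sign σ) with h | h
    · rw [h, one_smul]; exact h1
    · rw [h, Units.smul_def]; simpa using h1.neg
  have hf : f.IsHomogeneous d := hdet.sub ((isHomogeneous_X_pow none d).C_mul c)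
  obtain ⟨a, ha, h⟩ := TsenLib.exists_zero_fintype hK (fun _ : Unit => f) (fun _ => d) (fun _ => hf)
    (fun _ => hd) (by rw [Fintype.card_option, Fintype.card_fin]; simp)
  let x : L := ∑ l, a (some l) • b l
  have heval : eval a M.det = Algebra.norm K x := by
    rw [RingHom.map_det, Algebra.norm_eq_matrix_det b]
    congr 1
    ext i j
    simp [M, x, Matrix.sum_apply, mul_comm]
  have h0 := h ()
  rw [map_sub, heval, map_mul, eval_C, map_pow, eval_X, sub_eq_zero] at h0
  have hne : a none ≠ 0 := by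
    intro hn
    rw [hn, zero_pow hd.ne', mul_zero] at h0
    have hx : x = 0 := Algebra.norm_eq_zero_iff.1 h0
    refine ha (funext fun o => ?_)
    cases o with
    | none => exact hn
    | some l => exact Fintype.linearIndependent_iff.1 b.linearIndependent (fun l => a (some l)) hx l
  refine ⟨algebraMap K L (a none)⁻¹ * x, ?_⟩
  rw [map_mul, Algebra.norm_algebraMap, h0, mul_comm c, ← mul_assoc, ← mul_pow, inv_mul_cancel₀ hne,
    one_pow, one_mul]

open scoped Classical

variable {K L : Type u} [Field K] [Field L] [Algebra K L] [FiniteDimensional K L] [IsGalois K L]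

/-- The product of the conjugates over a subgroup. -/
noncomputable def normOf (H : Subgroup (L ≃ₐ[K] L)) (x : L) : L :=
  ∏ h : H, (h : L ≃ₐ[K] L) x

theorem normOf_eq_algebraMap (H : Subgroup (L ≃ₐ[K] L)) (x : L) :
    normOf H x = algebraMap (IntermediateField.fixedField H) L
      (Algebra.norm (IntermediateField.fixedField H) x) := by
  rw [Algebra.norm_eq_prod_automorphisms, normOf]
  refine Fintype.prod_equiv (IntermediateField.subgroupEquivAlgEquiv H).toEquiv _ _ fun h => rfl

theorem normOf_mul (H : Subgroup (L ≃ₐ[K] L)) (x y : L) : normOf H (x * y) = normOf H x * normOf H y := by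
  simp [normOf, Finset.prod_mul_distrib]

theorem normOf_div (H : Subgroup (L ≃ₐ[K] L)) (x y : L) : normOf H (x / y) = normOf H x / normOf H y := by
  simp [normOf, Finset.prod_div_distrib]

theorem normOf_conj {H : Subgroup (L ≃ₐ[K] L)} {σ : L ≃ₐ[K] L} (hσ : ∀ h, h ∈ H ↔ σ * h * σ⁻¹ ∈ H) (x : L) :
    normOf H (σ x) = σ (normOf H x) := by
  rw [normOf, normOf, map_prod]
  symm
  refine Fintype.prod_bijective (fun h : H => (⟨σ * h * σ⁻¹, (hσ _).1 h.2⟩ : H)) ⟨fun a b hab => ?_, fun b => ?_⟩ _ _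
    fun h => ?_
  · exact Subtype.ext (mul_left_cancel (mul_right_cancel (congrArg Subtype.val hab)))
  · exact ⟨⟨σ⁻¹ * b * σ, (hσ _).2 (by simp [mul_assoc])⟩, Subtype.ext (by simp [mul_assoc])⟩
  · simp [AlgEquiv.mul_apply]

/-- Hilbert 90 for one step `H' ◁ H` of prime index. -/
theorem exists_div_eq {H' : Subgroup (L ≃ₐ[K] L)} {σ : L ≃ₐ[K] L} {p : ℕ} (hp : 0 < p)
    (hσ : ∀ h, h ∈ H' ↔ σ * h * σ⁻¹ ∈ H') (hpow : σ ^ p ∈ H')
    (hinj : ∀ i < p, ∀ j < p, (σ ^ i)⁻¹ * σ ^ j ∈ H' → i = j)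
    {e : L} (he : e ∈ IntermediateField.fixedField H')
    (hN : ∏ i ∈ range p, (σ ^ i) e = 1) :
    ∃ y : L, y ∈ IntermediateField.fixedField H' ∧ y ≠ 0 ∧ e * σ y = y := by
  classical
  set E := IntermediateField.fixedField H'
  have hmem : ∀ {x : L}, x ∈ E → σ x ∈ E := by
    intro x hx h
    obtain ⟨h', hh'⟩ := h
    have h1 : (σ⁻¹ * h' * σ) x = x :=
      hx ⟨σ⁻¹ * h' * σ, (hσ _).2 (by simpa [mul_assoc] using hh')⟩
    have h2 := congrArg σ h1
    simpa [AlgEquiv.mul_apply] using h2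
  have hpowmem : ∀ (i : ℕ) {x : L}, x ∈ E → (σ ^ i) x ∈ E := by
    intro i
    induction i with
    | zero => intro x hx; simpa using hx
    | succ i ih => intro x hx; rw [pow_succ, AlgEquiv.mul_apply]; exact ih (hmem hx)
  let χ : Fin p → (E →* L) := fun i => ((σ ^ (i : ℕ)).toAlgHom.toRingHom.toMonoidHom).comp E.val.toRingHom.toMonoidHom
  have hχ : Function.Injective χ := by
    intro i j hij
    refine Fin.ext (hinj _ i.2 _ j.2 ?_)
    rw [← IntermediateField.fixingSubgroup_fixedField H', IntermediateField.mem_fixingSubgroup_iff]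
    intro x hx
    have h1 : (σ ^ (i : ℕ)) x = (σ ^ (j : ℕ)) x := DFunLike.congr_fun hij (⟨x, hx⟩ : E)
    rw [AlgEquiv.mul_apply, ← h1, ← AlgEquiv.mul_apply, inv_mul_cancel, AlgEquiv.one_apply]
  have hli := (linearIndependent_monoidHom E L).comp χ hχ
  let z : ℕ → L := fun i => ∏ j ∈ range i, (σ ^ j) e
  have he0 : e ≠ 0 := by
    rintro rfl
    have h0 : ∏ i ∈ range p, (σ ^ i) (0 : L) = 0 := Finset.prod_eq_zero (Finset.mem_range.2 hp) (map_zero _)
    exact zero_ne_one (h0.symm.trans hN)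
  obtain ⟨t, ht⟩ : ∃ t : E, ∑ i : Fin p, z i * χ i t ≠ 0 := by
    by_contra hcon
    push_neg at hcon
    have h1 := Fintype.linearIndependent_iff.1 hli (fun i : Fin p => z i) (by
      funext t
      simpa using hcon t) ⟨0, hp⟩
    simp [z] at h1
  have hz : ∀ i, z i ∈ E := fun i => prod_mem fun j _ => hpowmem j he
  have hstep : ∀ i, e * σ (z i) = z (i + 1) := by
    intro i
    simp only [z]
    rw [map_prod, Finset.prod_range_succ' _ i, pow_zero, AlgEquiv.one_apply, mul_comm]
    refine congrArg (· * e) (Finset.prod_congr rfl fun j _ => ?_)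
    rw [pow_succ', AlgEquiv.mul_apply]
  refine ⟨∑ i : Fin p, z i * χ i t, sum_mem fun i _ => mul_mem (hz i) (hpowmem i t.2), ht, ?_⟩
  let g : ℕ → L := fun i => z i * (σ ^ i) (t : L)
  have hg : g p = g 0 := by
    simp only [g, z, hN, Finset.range_zero, Finset.prod_empty, pow_zero, AlgEquiv.one_apply, one_mul]
    exact t.2 ⟨σ ^ p, hpow⟩
  have hsum : ∑ i : Fin p, z i * χ i t = ∑ i ∈ range p, g i := Finset.sum_range (fun i => g i) |>.symm
  rw [hsum, map_sum, Finset.mul_sum]
  have h1 : ∀ i, e * σ (g i) = g (i + 1) := by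
    intro i
    simp only [g]
    rw [map_mul, ← mul_assoc, hstep, pow_succ', AlgEquiv.mul_apply]
  simp only [h1]
  have h2 := Finset.sum_range_succ g p
  rw [Finset.sum_range_succ'] at h2
  rw [hg] at h2
  exact add_right_cancel h2

variable (K L) in
/-- The subgroup generated by the elements `w / g w`. -/
abbrev augSubgroup : Subgroup Lˣ :=
  Subgroup.closure {v : Lˣ | ∃ (w : Lˣ) (g : L ≃ₐ[K] L), (v : L) = (w : L) / g (w : L)}

theorem mk_mem_aug (w : Lˣ) (g : L ≃ₐ[K] L) :
    w / Units.map (g : L →* L) w ∈ augSubgroup K L :=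
  Subgroup.subset_closure ⟨w, g, by rw [Units.val_div_eq_div_val]; rfl⟩

theorem mem_aug_of_isPGroup (hK : Curves.IsCi K 1) {p : ℕ} [Fact p.Prime] :
    ∀ (n : ℕ) (H : Subgroup (L ≃ₐ[K] L)), Nat.card H = p ^ n →
      ∀ u : Lˣ, normOf H (u : L) = 1 → u ∈ augSubgroup K L := by
  intro n
  induction n with
  | zero =>
    intro H hH u hu
    have hbot : H = ⊥ := Subgroup.card_eq_one.1 (by simpa using hH)
    subst hbot
    have h1 : (u : L) = 1 := by
      rw [← hu, normOf, Finset.prod_eq_single (1 : (⊥ : Subgroup (L ≃ₐ[K] L)))]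
      · rfl
      · exact fun h _ hne => absurd (Subsingleton.elim h 1) hne
      · exact fun h => absurd (@Finset.mem_univ _ (_) _) h
    rw [Units.val_eq_one.1 h1]
    exact one_mem _
  | succ n ih =>
    intro H hH u hu
    have hpp := Fact.out (p := p.Prime)
    obtain ⟨Q, hQ⟩ := Sylow.exists_subgroup_card_pow_prime (G := H) p (n := n)
      (hH ▸ pow_dvd_pow p n.le_succ)
    have hidx : Q.index = p := by
      have h1 := Q.card_mul_index
      rw [hQ, hH, pow_succ] at h1
      exact mul_left_cancel₀ (pow_ne_zero n hpp.ne_zero) h1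
    haveI hQn : Q.Normal := Subgroup.normal_of_index_eq_minFac_card (by
      rw [hidx, hH, Nat.pow_minFac n.succ_ne_zero, hpp.minFac_eq])
    obtain ⟨σ, hσQ⟩ : ∃ σ : H, σ ∉ Q := by
      by_contra hcon
      push_neg at hcon
      rw [(Subgroup.eq_top_iff' Q).2 hcon, Subgroup.index_top] at hidx
      exact hpp.one_lt.ne hidx
    let H' : Subgroup (L ≃ₐ[K] L) := Q.map H.subtype
    have hmemH' : ∀ {x : H}, (x : L ≃ₐ[K] L) ∈ H' ↔ x ∈ Q := fun {x} =>
      Subgroup.mem_map_iff_mem H.subtype_injective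
    have hH'card : Nat.card H' = p ^ n := by
      rw [← hQ]
      exact Nat.card_congr (Subgroup.equivMapOfInjective Q _ H.subtype_injective).toEquiv.symm
    have hσconj : ∀ h, h ∈ H' ↔ (σ : L ≃ₐ[K] L) * h * (σ : L ≃ₐ[K] L)⁻¹ ∈ H' := by
      intro h
      constructor
      · rintro ⟨x, hx, rfl⟩
        exact hmemH'.2 (hQn.conj_mem x hx σ : σ * x * σ⁻¹ ∈ Q)
      · intro hh
        obtain ⟨x, hx, hxe⟩ := hh
        have : h = ((σ⁻¹ * x * σ⁻¹⁻¹ : H) : L ≃ₐ[K] L) := by
          simp only [Subgroup.coe_mul, Subgroup.coe_inv, inv_inv]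
          rw [show (x : L ≃ₐ[K] L) = _ from hxe]
          simp [mul_assoc]
        rw [this]
        exact hmemH'.2 (hQn.conj_mem x hx σ⁻¹)
    have hord : orderOf (QuotientGroup.mk σ : H ⧸ Q) = p :=
      orderOf_eq_prime (hidx ▸ pow_card_eq_one') (fun h => hσQ ((QuotientGroup.eq_one_iff σ).1 h))
    have hpow : (σ : L ≃ₐ[K] L) ^ p ∈ H' := by
      rw [← SubgroupClass.coe_pow, hmemH', ← QuotientGroup.eq_one_iff, QuotientGroup.mk_pow, ← hord]
      exact pow_orderOf_eq_one _
    have hinjQ : ∀ i < p, ∀ j < p, (σ ^ i)⁻¹ * σ ^ j ∈ Q → i = j := by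
      intro i hi j hj h
      rw [← QuotientGroup.eq, QuotientGroup.mk_pow, QuotientGroup.mk_pow] at h
      exact pow_injOn_Iio_orderOf (by rwa [Set.mem_Iio, hord]) (by rwa [Set.mem_Iio, hord]) h
    have hinj : ∀ i < p, ∀ j < p, ((σ : L ≃ₐ[K] L) ^ i)⁻¹ * (σ : L ≃ₐ[K] L) ^ j ∈ H' → i = j :=
      fun i hi j hj h => hinjQ i hi j hj (hmemH'.1 (by simpa using h))
    have he : normOf H' (u : L) ∈ IntermediateField.fixedField H' := by
      rw [normOf_eq_algebraMap]
      exact SetLike.coe_mem _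
    -- the norm from `H` is the product of the conjugates of the norm from `H'`
    have hsplit : normOf H (u : L) = ∏ i ∈ range p, ((σ : L ≃ₐ[K] L) ^ i) (normOf H' (u : L)) := by
      rw [Finset.prod_range]
      simp only [normOf, map_prod]
      rw [← Fintype.prod_prod_type']
      symm
      refine Fintype.prod_bijective
        (fun x : Fin p × H' => (⟨(σ : L ≃ₐ[K] L) ^ (x.1 : ℕ) * x.2, H.mul_mem (pow_mem σ.2 _)
          (Subgroup.map_subtype_le Q x.2.2)⟩ : H)) ?_ _ _ fun x => rfl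
      refine (Nat.bijective_iff_injective_and_card _).2 ⟨fun a b hab => ?_, by
        rw [Nat.card_prod, Nat.card_fin, hH'card, hH, pow_succ, mul_comm]⟩
      have hab' := congrArg Subtype.val hab
      simp only at hab'
      have h1 : ((σ : L ≃ₐ[K] L) ^ (a.1 : ℕ))⁻¹ * (σ : L ≃ₐ[K] L) ^ (b.1 : ℕ) ∈ H' := by
        have h2 : ((σ : L ≃ₐ[K] L) ^ (a.1 : ℕ))⁻¹ * (σ : L ≃ₐ[K] L) ^ (b.1 : ℕ) =
            (a.2 : L ≃ₐ[K] L) * (b.2 : L ≃ₐ[K] L)⁻¹ := by
          rw [eq_mul_inv_iff_mul_eq, mul_assoc, inv_mul_eq_iff_eq_mul]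
          exact hab'.symm
        rw [h2]
        exact H'.mul_mem a.2.2 (H'.inv_mem b.2.2)
      have h3 : a.1 = b.1 := Fin.ext (hinj _ a.1.2 _ b.1.2 h1)
      rw [h3] at hab'
      exact Prod.ext h3 (Subtype.ext (mul_left_cancel hab'))
    obtain ⟨y, hy, hy0, hey⟩ := exists_div_eq hpp.pos hσconj hpow hinj he (hsplit.symm.trans hu)
    haveI : Algebra.IsAlgebraic K (IntermediateField.fixedField H') := Algebra.IsAlgebraic.of_finite _ _
    obtain ⟨z, hz⟩ := norm_surjective (L := L)
      (TsenLib.isCi_of_isAlgebraic K (IntermediateField.fixedField H') 1 hK) ⟨y, hy⟩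
    have hzy : normOf H' z = y := by
      rw [normOf_eq_algebraMap, hz]
      rfl
    have hz0 : z ≠ 0 := by
      rintro rfl
      rw [normOf_eq_algebraMap, Algebra.norm_zero, map_zero] at hzy
      exact hy0 hzy.symm
    let zu := Units.mk0 z hz0
    have h4 := mk_mem_aug zu (σ : L ≃ₐ[K] L)
    have h5 : normOf H' ((u / (zu / Units.map ((σ : L ≃ₐ[K] L) : L →* L) zu) : Lˣ) : L) = 1 := by
      rw [Units.val_div_eq_div_val, normOf_div, Units.val_div_eq_div_val, normOf_div]
      show normOf H' (u : L) / (normOf H' z / normOf H' ((σ : L ≃ₐ[K] L) z)) = 1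
      rw [normOf_conj hσconj, hzy, div_div_eq_mul_div, hey, div_self hy0]
    have h6 := mul_mem (ih H' hH'card _ h5) h4
    rwa [div_mul_cancel] at h6

theorem mem_aug_of_norm_eq_one (hK : Curves.IsCi K 1) (u : Lˣ) (hu : Algebra.norm K (u : L) = 1) :
    u ∈ augSubgroup K L := by
  classical
  let q : Lˣ →* Lˣ ⧸ augSubgroup K L := QuotientGroup.mk' _
  have hq : ∀ g : L ≃ₐ[K] L, q (Units.map (g : L →* L) u) = q u := fun g => by
    refine (QuotientGroup.eq.2 ?_)
    rw [inv_mul_eq_div]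
    exact mk_mem_aug u g
  have key : ∀ (p : ℕ) [Fact p.Prime], ∃ m : ℕ, ¬ p ∣ m ∧ q u ^ m = 1 := by
    intro p hp
    let P : Sylow p (L ≃ₐ[K] L) := default
    let H : Subgroup (L ≃ₐ[K] L) := P
    obtain ⟨n, hn⟩ := IsPGroup.iff_card.1 P.2
    let Q := (L ≃ₐ[K] L) ⧸ H
    haveI : Fintype Q := Fintype.ofFinite _
    refine ⟨Fintype.card Q, ?_, ?_⟩
    · rw [← Nat.card_eq_fintype_card]
      exact P.not_dvd_index
    · have h1 : normOf H ((∏ c : Q, Units.map (((c.out : L ≃ₐ[K] L)⁻¹ : L ≃ₐ[K] L) : L →* L) u : Lˣ) : L) = 1 := by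
        rw [Units.coe_prod]
        simp only [Units.coe_map, normOf, map_prod]
        rw [← map_one (algebraMap K L), ← hu, Algebra.norm_eq_prod_automorphisms, ← Fintype.prod_prod_type']
        refine Fintype.prod_bijective (fun x : H × Q => (x.1 : L ≃ₐ[K] L) * (x.2.out : L ≃ₐ[K] L)⁻¹) ?_ _ _ fun x => rfl
        have hcomp : (fun x : H × Q => (x.1 : L ≃ₐ[K] L) * (x.2.out : L ≃ₐ[K] L)⁻¹) =
            (fun x : Q × H => (x.1.out * (x.2 : L ≃ₐ[K] L))⁻¹) ∘ (fun x : H × Q => (x.2, x.1⁻¹)) := by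
          funext x
          simp
        rw [hcomp]
        refine Function.Bijective.comp ?_ ⟨fun a b h => ?_, fun b => ⟨(b.2⁻¹, b.1), by simp⟩⟩
        · refine (inv_involutive.bijective).comp ((Nat.bijective_iff_injective_and_card _).2 ⟨fun a b h => ?_, ?_⟩)
          · have h' : a.1.out * (a.2 : L ≃ₐ[K] L) = b.1.out * (b.2 : L ≃ₐ[K] L) := h
            have h2 : a.1 = b.1 := by
              rw [← QuotientGroup.out_eq' a.1, ← QuotientGroup.out_eq' b.1,
                ← QuotientGroup.mk_mul_of_mem a.1.out a.2.2, ← QuotientGroup.mk_mul_of_mem b.1.out b.2.2, h']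
            rw [h2] at h'
            exact Prod.ext h2 (Subtype.ext (mul_left_cancel h'))
          · rw [Nat.card_prod, ← H.card_mul_index, mul_comm]
            rfl
        · simp only [Prod.mk.injEq, inv_inj] at h
          exact Prod.ext h.2 h.1
      have h2 := mem_aug_of_isPGroup hK n H hn _ h1
      rw [← QuotientGroup.eq_one_iff] at h2
      change q _ = 1 at h2
      rwa [map_prod, Finset.prod_congr rfl (fun c _ => hq _), Finset.prod_const, Finset.card_univ] at h2
  rw [← QuotientGroup.eq_one_iff, ← orderOf_eq_one_iff]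
  by_contra hne
  obtain ⟨p, hp, hdvd⟩ := Nat.exists_prime_and_dvd hne
  haveI := Fact.mk hp
  obtain ⟨m, hm, hpow⟩ := key p
  exact hm (hdvd.trans (orderOf_dvd_of_pow_eq_one hpow))

end NormC1Lib
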